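import Mathlib

/-!
# Dimension of finite modules over semi-local Noetherian rings
-/

set_option autoImplicit false
universe u

open PrimeSpectrum

namespace GrothLib.SemiLocalDim16

variable {A : Type u} [CommRing A] {M : Type u} [AddCommGroup M] [Module A M]

theorem ringKrullDim_le_nat [IsNoetherianRing A] [Finite (MaximalSpectrum A)] :
    ∃ n : ℕ, ringKrullDim A ≤ n := by
  classical
  haveI := Fintype.ofFinite (MaximalSpectrum A)
  refine ⟨Finset.univ.sup fun m : MaximalSpectrum A => m.asIdeal.height.toNat, ?_⟩
  rw [ringKrullDim_le_iff_isMaximal_height_le]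
  intro m hm
  have h1 := Finset.le_sup (f := fun m : MaximalSpectrum A => m.asIdeal.height.toNat) (Finset.mem_univ ⟨m, hm⟩)
  haveI := hm.isPrime
  have h2 : m.height ≠ ⊤ := (Ideal.height_lt_top hm.ne_top).ne
  have h3 : m.height ≤ ((Finset.univ.sup fun m : MaximalSpectrum A => m.asIdeal.height.toNat : ℕ) : ℕ∞) := by
    rw [← ENat.coe_toNat h2]
    exact_mod_cast h1
  exact_mod_cast h3

theorem exists_nat_supportDim [IsNoetherianRing A] [Finite (MaximalSpectrum A)] [Nontrivial M] :
    ∃ n : ℕ, Module.supportDim A M = n := by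
  obtain ⟨N, hN⟩ := ringKrullDim_le_nat (A := A)
  have h1 : Module.supportDim A M ≤ (N : WithBot ℕ∞) := (Module.supportDim_le_ringKrullDim A M).trans hN
  have h2 := Module.supportDim_ne_bot_of_nontrivial A M
  cases h : Module.supportDim A M with
  | bot => exact absurd h h2
  | coe a =>
    rw [h] at h1
    have h3 : a ≤ (N : ℕ∞) := by exact_mod_cast h1
    lift a to ℕ using (h3.trans_lt (ENat.coe_lt_top N)).ne
    exact ⟨a, rfl⟩

theorem ringKrullDim_quotient_le_supportDim {p : PrimeSpectrum A} [Module.Finite A M]
    (hp : p ∈ Module.support A M) : ringKrullDim (A ⧸ p.asIdeal) ≤ Module.supportDim A M := by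
  rw [← Module.supportDim_quotient_eq_ringKrullDim]
  refine Order.krullDim_le_of_strictMono
    (fun a : Module.support A (A ⧸ p.asIdeal) => (⟨a.1, ?_⟩ : Module.support A M)) fun {_ _} h => h
  have h1 : p.asIdeal ≤ a.1.asIdeal := by
    have h2 : a.1 ∈ zeroLocus ((Module.annihilator A (A ⧸ p.asIdeal) : Ideal A) : Set A) :=
      Module.support_eq_zeroLocus (R := A) (M := A ⧸ p.asIdeal) ▸ a.2
    rwa [Ideal.annihilator_quotient] at h2
  exact Module.mem_support_mono h1 hp

/-- Every element of a series in the support has quotient dimension at least the length. -/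
theorem length_le_ringKrullDim_quotient (q : LTSeries (Module.support A M)) :
    (q.length : WithBot ℕ∞) ≤ ringKrullDim (A ⧸ q.head.1.asIdeal) := by
  rw [← Module.supportDim_quotient_eq_ringKrullDim]
  have hmem : ∀ i, (q i).1 ∈ Module.support A (A ⧸ q.head.1.asIdeal) := by
    intro i
    rw [Module.support_eq_zeroLocus, Ideal.annihilator_quotient]
    exact (q.head_le i : q.head ≤ q i)
  exact Order.LTSeries.length_le_krullDim
    (⟨q.length, fun i => (⟨(q i).1, hmem i⟩ : Module.support A (A ⧸ q.head.1.asIdeal)), fun i => q.step i⟩ :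
      LTSeries (Module.support A (A ⧸ q.head.1.asIdeal)))

theorem le_quot_add_one [IsNoetherianRing A] [Module.Finite A M] {x : A} (hx : x ∈ Ring.jacobson A) :
    Module.supportDim A M ≤ Module.supportDim A (QuotSMulTop x M) + 1 := by
  refine Module.supportDim_le_supportDim_quotSMulTop_succ_of_mem_jacobson ?_
  exact (Ideal.jacobson_mono bot_le) (by rwa [Ideal.jacobson_bot])

/-- Cutting by an element outside the primes of maximal coheight drops the dimension. -/
theorem quot_add_one_le [Module.Finite A M] {x : A} {D : ℕ} (hD : Module.supportDim A M = D)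
    (h : ∀ p : PrimeSpectrum A, p ∈ Module.support A M →
        ringKrullDim (A ⧸ p.asIdeal) = Module.supportDim A M → x ∉ p.asIdeal) :
    Module.supportDim A (QuotSMulTop x M) + 1 ≤ D := by
  have key : ∀ q : LTSeries (Module.support A (QuotSMulTop x M)), q.length + 1 ≤ D := by
    intro q
    have hsub : ∀ a : PrimeSpectrum A, a ∈ Module.support A (QuotSMulTop x M) →
        a ∈ Module.support A M ∧ x ∈ a.asIdeal := fun a ha => by
      rw [Module.support_quotSMulTop] at ha
      exact ⟨ha.1, ha.2 (Set.mem_singleton x)⟩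
    have h1 := length_le_ringKrullDim_quotient q
    obtain ⟨h2, h3⟩ := hsub q.head.1 q.head.2
    have h4 := (ringKrullDim_quotient_le_supportDim h2).lt_of_ne fun e => h _ h2 e h3
    have h5 := h1.trans_lt h4
    rw [hD] at h5
    have h6 : q.length < D := by exact_mod_cast h5
    omega
  by_cases hemp : IsEmpty (Module.support A (QuotSMulTop x M))
  · have h0 : Module.supportDim A (QuotSMulTop x M) = ⊥ := Order.krullDim_eq_bot
    rw [h0, WithBot.bot_add]
    exact bot_le
  rw [not_isEmpty_iff] at hemp
  obtain ⟨z⟩ := hemp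
  have hD1 : 1 ≤ D := by have := key (RelSeries.singleton _ z); omega
  have h0 : Module.supportDim A (QuotSMulTop x M) ≤ ((D - 1 : ℕ) : WithBot ℕ∞) := by
    refine iSup_le fun q => ?_
    exact_mod_cast (show q.length ≤ D - 1 by have := key q; omega)
  refine (add_le_add h0 (le_refl (1 : WithBot ℕ∞))).trans ?_
  exact_mod_cast (show D - 1 + 1 ≤ D by omega)

theorem quot_add_one_eq [IsNoetherianRing A] [Finite (MaximalSpectrum A)] [Module.Finite A M] {x : A}
    (hx : x ∈ Ring.jacobson A)
    (h : ∀ p : PrimeSpectrum A, p ∈ Module.support A M →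
        ringKrullDim (A ⧸ p.asIdeal) = Module.supportDim A M → x ∉ p.asIdeal) :
    Module.supportDim A (QuotSMulTop x M) + 1 = Module.supportDim A M := by
  refine le_antisymm ?_ (le_quot_add_one hx)
  rcases subsingleton_or_nontrivial M with hM | hM
  · rw [Module.supportDim_eq_bot_of_subsingleton, Module.supportDim_eq_bot_of_subsingleton, WithBot.bot_add]
  obtain ⟨D, hD⟩ := exists_nat_supportDim (A := A) (M := M)
  rw [hD]
  exact quot_add_one_le hD h

theorem notMem_of_quot_add_one_eq [IsNoetherianRing A] [Finite (MaximalSpectrum A)] [Module.Finite A M] {x : A}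
    (h : Module.supportDim A (QuotSMulTop x M) + 1 = Module.supportDim A M) (p : PrimeSpectrum A)
    (hp : p ∈ Module.support A M) (htop : ringKrullDim (A ⧸ p.asIdeal) = Module.supportDim A M) :
    x ∉ p.asIdeal := by
  intro hxp
  have hp' : p ∈ Module.support A (QuotSMulTop x M) := by
    rw [Module.support_quotSMulTop]
    exact ⟨hp, Set.singleton_subset_iff.2 hxp⟩
  have h1 := ringKrullDim_quotient_le_supportDim hp'
  rw [htop, ← h] at h1
  haveI : Nontrivial (QuotSMulTop x M) := Module.nonempty_support_iff.1 ⟨p, hp'⟩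
  obtain ⟨e, he⟩ := exists_nat_supportDim (A := A) (M := QuotSMulTop x M)
  rw [he] at h1
  have h3 : e + 1 ≤ e := by exact_mod_cast h1
  omega

end GrothLib.SemiLocalDim16
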