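import Mathlib
import Groth.Agent.Lib.SemiLocalDim16.Basic
import Groth.Agent.Lib.AffDom.Formula
import Groth.Agent.Lib.FiniteLengthSupp

/-!
# Systems of parameters over semi-local Noetherian rings
-/

set_option autoImplicit false
universe u

open PrimeSpectrum

namespace GrothLib.SemiLocalDim16

variable {A : Type u} [CommRing A] {M : Type u} [AddCommGroup M] [Module A M]

theorem supportDim_congr {N : Type u} [AddCommGroup N] [Module A N]
    (h : Module.support A M = Module.support A N) : Module.supportDim A M = Module.supportDim A N := by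
  unfold Module.supportDim
  rw [h]

theorem support_quot_sup [Module.Finite A M] (I : Ideal A) (x : A) :
    Module.support A (QuotSMulTop x (M ⧸ (I • ⊤ : Submodule A M))) =
      Module.support A (M ⧸ ((I ⊔ Ideal.span {x}) • ⊤ : Submodule A M)) := by
  rw [Module.support_quotSMulTop, Module.support_quotient, Module.support_quotient,
    PrimeSpectrum.zeroLocus_sup, PrimeSpectrum.zeroLocus_span, Set.inter_assoc]

theorem jacobson_not_le [Finite (MaximalSpectrum A)] (p : Ideal A) [hp : p.IsPrime] (hmax : ¬ p.IsMaximal) :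
    ¬ Ring.jacobson A ≤ p := by
  classical
  intro hle
  haveI := Fintype.ofFinite (MaximalSpectrum A)
  have h1 : (Finset.univ.inf fun m : MaximalSpectrum A => m.asIdeal) ≤ p := by
    refine le_trans ?_ hle
    rw [← Ideal.jacobson_bot]
    exact le_sInf fun m hm => Finset.inf_le (f := fun m : MaximalSpectrum A => m.asIdeal) (Finset.mem_univ ⟨m, hm.2⟩)
  obtain ⟨m, -, hm⟩ := (Ideal.IsPrime.inf_le' hp).1 h1
  exact hmax (m.isMaximal.eq_of_le hp.ne_top hm ▸ m.isMaximal)

/-- Avoiding finitely many primes inside a given ideal. -/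
theorem exists_mem_avoid {a : Ideal A} {S : Set (Ideal A)} (hS : S.Finite) (hp : ∀ p ∈ S, p.IsPrime)
    (h : ∀ p ∈ S, ¬ a ≤ p) : ∃ x ∈ a, ∀ p ∈ S, x ∉ p := by
  classical
  by_contra hcon
  push Not at hcon
  obtain ⟨p, hpS, hle⟩ := (Ideal.subset_union_prime (s := hS.toFinset) (f := id) ⊥ ⊥
    (fun i hi _ _ => hp i (hS.mem_toFinset.1 hi))).1 fun x hx => by
      obtain ⟨p, hpS, hxp⟩ := hcon x hx
      exact Set.mem_biUnion (hS.mem_toFinset.2 hpS) hxp
  exact h p (hS.mem_toFinset.1 hpS) hle

theorem not_isMaximal_of_pos {p : Ideal A} [p.IsPrime] {e : ℕ} (he : 0 < e)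
    (h : ringKrullDim (A ⧸ p) = e) : ¬ p.IsMaximal := by
  intro hmax
  letI := Ideal.Quotient.field p
  rw [ringKrullDim_eq_zero_of_field] at h
  have : (0 : ℕ) = e := by exact_mod_cast h
  omega

/-- The primes of maximal coheight in the support are finitely many. -/
theorem finite_top [IsNoetherianRing A] [Module.Finite A M] {D : ℕ} (hD : Module.supportDim A M = D) :
    {p : Ideal A | ∃ _ : p.IsPrime, Module.annihilator A M ≤ p ∧ ringKrullDim (A ⧸ p) = D}.Finite := by
  refine ((Module.annihilator A M).finite_minimalPrimes_of_isNoetherianRing).subset ?_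
  rintro p ⟨hp, hann, htop⟩
  refine ⟨⟨hp, hann⟩, fun q hq hqp => ?_⟩
  by_contra hne
  have hlt : (⟨q, hq.1⟩ : PrimeSpectrum A) < ⟨p, hp⟩ := lt_of_le_not_ge hqp hne
  have h1 := Order.coheight_add_one_le hlt
  have h2 : ringKrullDim (A ⧸ q) ≤ D := hD ▸ ringKrullDim_quotient_le_supportDim (p := ⟨q, hq.1⟩)
    (by rw [Module.support_eq_zeroLocus]; exact hq.2)
  rw [GrothLib.AffDom.ringKrullDim_quotient_eq_coheight ⟨p, hp⟩] at htop
  rw [GrothLib.AffDom.ringKrullDim_quotient_eq_coheight ⟨q, hq.1⟩] at h2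
  have h3 : Order.coheight (⟨p, hp⟩ : PrimeSpectrum A) = (D : ℕ∞) := by exact_mod_cast htop
  have h4 : Order.coheight (⟨q, hq.1⟩ : PrimeSpectrum A) ≤ (D : ℕ∞) := by exact_mod_cast h2
  rw [h3] at h1
  have : D + 1 ≤ D := by exact_mod_cast h1.trans h4
  omega

variable [IsNoetherianRing A] [Module.Finite A M]

theorem le_quot_sup_add_one (I : Ideal A) {x : A} (hx : x ∈ Ring.jacobson A) :
    Module.supportDim A (M ⧸ (I • ⊤ : Submodule A M)) ≤
      Module.supportDim A (M ⧸ ((I ⊔ Ideal.span {x}) • ⊤ : Submodule A M)) + 1 := by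
  rw [← supportDim_congr (support_quot_sup I x)]
  exact le_quot_add_one hx

theorem le_quot_ofList : ∀ (xs : List A), (∀ x ∈ xs, x ∈ Ring.jacobson A) → ∀ I : Ideal A,
    Module.supportDim A (M ⧸ (I • ⊤ : Submodule A M)) ≤
      Module.supportDim A (M ⧸ ((I ⊔ Ideal.ofList xs) • ⊤ : Submodule A M)) + xs.length
  | [], _, I => by rw [Ideal.ofList_nil, sup_bot_eq, List.length_nil, Nat.cast_zero, add_zero]
  | x :: xs, h, I => by
    refine (le_quot_sup_add_one I (h x List.mem_cons_self)).trans ?_
    refine (add_le_add (le_quot_ofList xs (fun y hy => h y (List.mem_cons_of_mem _ hy)) _)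
      (le_refl (1 : WithBot ℕ∞))).trans ?_
    rw [List.length_cons, Ideal.ofList_cons, sup_assoc, Nat.cast_succ, ← add_assoc]

theorem nontrivial_quot [Nontrivial M] {I : Ideal A} (hI : I ≤ Ring.jacobson A) :
    Nontrivial (M ⧸ (I • ⊤ : Submodule A M)) := by
  refine Submodule.Quotient.nontrivial_iff.2 fun h => top_ne_bot (α := Submodule A M) ?_
  exact Submodule.eq_bot_of_le_smul_of_le_jacobson_bot I ⊤ Module.Finite.fg_top h.ge
    (by rwa [Ideal.jacobson_bot])

theorem exists_sop [Finite (MaximalSpectrum A)] : ∀ (e : ℕ) (I : Ideal A),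
    Module.supportDim A (M ⧸ (I • ⊤ : Submodule A M)) = e →
      ∃ ys : List A, (∀ y ∈ ys, y ∈ Ring.jacobson A) ∧ ys.length = e ∧
        Module.supportDim A (M ⧸ ((I ⊔ Ideal.ofList ys) • ⊤ : Submodule A M)) ≤ 0
  | 0, I, h => ⟨[], by simp, rfl, by rw [Ideal.ofList_nil, sup_bot_eq, h]; simp⟩
  | e + 1, I, h => by
    obtain ⟨x, hxJ, hx⟩ := exists_mem_avoid (a := Ring.jacobson A) (finite_top h) (fun p hp => hp.1)
      (fun p hp => by
        obtain ⟨hpp, -, htop⟩ := hp
        exact jacobson_not_le p (not_isMaximal_of_pos (Nat.succ_pos e) htop))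
    have h1 := quot_add_one_eq (M := M ⧸ (I • ⊤ : Submodule A M)) hxJ fun p hp htop =>
      hx p.asIdeal ⟨p.2, by rw [Module.support_eq_zeroLocus] at hp; exact hp, htop.trans h⟩
    rw [supportDim_congr (support_quot_sup I x), h] at h1
    have h2 : Module.supportDim A (M ⧸ ((I ⊔ Ideal.span {x}) • ⊤ : Submodule A M)) = (e : ℕ) :=
      ENat.WithBot.add_one_cancel.1 (by rw [h1]; norm_num)
    obtain ⟨ys, hys, hlen, hfl⟩ := exists_sop e _ h2
    refine ⟨x :: ys, fun y hy => ?_, by simp [hlen], ?_⟩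
    · rcases List.mem_cons.1 hy with rfl | hy
      · exact hxJ
      · exact hys y hy
    · rwa [Ideal.ofList_cons, ← sup_assoc]

theorem isFiniteLength_of_supportDim_le_zero {N : Type u} [AddCommGroup N] [Module A N] [Module.Finite A N]
    (h : Module.supportDim A N ≤ 0) : IsFiniteLength A N :=
  Module.length_ne_top_iff.1 (GrothLib.FiniteLengthSupp.length_lt_top h).ne

theorem supportDim_le_zero_of_isFiniteLength {N : Type u} [AddCommGroup N] [Module A N] [Module.Finite A N]
    (h : IsFiniteLength A N) : Module.supportDim A N ≤ 0 := by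
  obtain ⟨hN, hA⟩ := isFiniteLength_iff_isNoetherian_isArtinian.1 h
  obtain ⟨n, s, hs⟩ := Module.Finite.exists_fin (R := A) (M := N)
  haveI : IsArtinian A (A ⧸ Module.annihilator A N) := by
    let f : A →ₗ[A] (Fin n → N) := LinearMap.pi fun i => LinearMap.toSpanSingleton A N (s i)
    have hker : Module.annihilator A N = LinearMap.ker f := by
      rw [← Submodule.annihilator_top, ← hs]
      ext a
      simp [f, Submodule.mem_annihilator_span, funext_iff]
    rw [hker]
    exact isArtinian_of_injective _ (LinearMap.ker_eq_bot.1 (Submodule.ker_liftQ_eq_bot _ f le_rfl le_rfl))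
  haveI : IsArtinianRing (A ⧸ Module.annihilator A N) :=
    isArtinian_of_tower A inferInstance
  rw [Module.supportDim_eq_ringKrullDim_quotient_annihilator]
  exact Ring.krullDimLE_iff.1 inferInstance

end GrothLib.SemiLocalDim16
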